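import Cfsg.Agent.Lib.H17.HeSp44.Tables

set_option autoImplicit false
set_option maxRecDepth 100000

/-! # Relator checks for HeSp44, part 0 (generated) -/

namespace Cfsg.Agent.Lib.H17.HeSp44

open Cfsg.Spor Cfsg.Agent.Lib.H17.CosetCert Cfsg.Agent.Lib.H17.CoxGlue Cfsg.Agent.Lib.H17.HeGlue

theorem relT0_ok : checkWord 12 4096 relT0 2058 = true := by
  decide +kernel

theorem relT1_ok : checkWord 12 4096 relT1 2058 = true := by
  decide +kernel

theorem relT2_ok : checkWord 12 4096 relT2 2058 = true := by
  decide +kernel

theorem relT3_ok : checkWord 12 4096 relT3 2058 = true := by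
  decide +kernel

theorem relT4_ok : checkWord 12 4096 relT4 2058 = true := by
  decide +kernel

theorem relT5_ok : checkWord 12 4096 relT5 2058 = true := by
  decide +kernel

theorem relT6_ok : checkWord 12 4096 relT6 2058 = true := by
  decide +kernel

theorem relT7_ok : checkWord 12 4096 relT7 2058 = true := by
  decide +kernel

theorem relT8_ok : checkWord 12 4096 relT8 2058 = true := by
  decide +kernel

theorem relT9_ok : checkWord 12 4096 relT9 2058 = true := by
  decide +kernel

theorem relT10_ok : checkWord 12 4096 relT10 2058 = true := by
  decide +kernel

theorem relT11_ok : checkWord 12 4096 relT11 2058 = true := by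
  decide +kernel

theorem relT12_ok : checkWord 12 4096 relT12 2058 = true := by
  decide +kernel

theorem relT13_ok : checkWord 12 4096 relT13 2058 = true := by
  decide +kernel

theorem relT14_ok : checkWord 12 4096 relT14 2058 = true := by
  decide +kernel

theorem relT15_ok : checkWord 12 4096 relT15 2058 = true := by
  decide +kernel

theorem relT16_ok : checkWord 12 4096 relT16 2058 = true := by
  decide +kernel

theorem relT17_ok : checkWord 12 4096 relT17 2058 = true := by
  decide +kernel

theorem relT18_ok : checkWord 12 4096 relT18 2058 = true := by
  decide +kernel

theorem relT19_ok : checkWord 12 4096 relT19 2058 = true := by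
  decide +kernel

theorem relT20_ok : checkWord 12 4096 relT20 2058 = true := by
  decide +kernel

theorem relT21_ok : checkWord 12 4096 relT21 2058 = true := by
  decide +kernel

theorem relT22_ok : checkWord 12 4096 relT22 2058 = true := by
  decide +kernel

theorem relT23_ok : checkWord 12 4096 relT23 2058 = true := by
  decide +kernel

theorem relT24_ok : checkWord 12 4096 relT24 2058 = true := by
  decide +kernel

theorem relT25_ok : checkWord 12 4096 relT25 2058 = true := by
  decide +kernel

theorem relT26_ok : checkWord 12 4096 relT26 2058 = true := by
  decide +kernel

theorem relT27_ok : checkWord 12 4096 relT27 2058 = true := by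
  decide +kernel

theorem relT28_ok : checkWord 12 4096 relT28 2058 = true := by
  decide +kernel

theorem relT29_ok : checkWord 12 4096 relT29 2058 = true := by
  decide +kernel

theorem relT30_ok : checkWord 12 4096 relT30 2058 = true := by
  decide +kernel

theorem relT31_ok : checkWord 12 4096 relT31 2058 = true := by
  decide +kernel

theorem relT32_ok : checkWord 12 4096 relT32 2058 = true := by
  decide +kernel

end Cfsg.Agent.Lib.H17.HeSp44
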