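import Cfsg.Agent.Lib.H17.HeSp44.Upper
import Cfsg.Agent.Lib.H17.HeSp44.RelA

set_option autoImplicit false
set_option maxRecDepth 100000

/-! # The index, HeSp44 (generated) -/

namespace Cfsg.Agent.Lib.H17.HeSp44

open Cfsg.Spor Cfsg.Agent.Lib.H17.CosetCert Cfsg.Agent.Lib.H17.CoxGlue Cfsg.Agent.Lib.H17.HeGlue

/-- the table of a generator -/
def tabOf : Gen → ℕ
  | .a => tab0
  | .b => tab1
  | .c => tab2
  | .d => tab3
  | .e => tab4
  | .f => tab5
  | .g => tab6

/-- the permutation of a generator -/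
noncomputable def σ' (u : Gen) : Equiv.Perm (Fin 2058) := σ 12 4096 2058 (tabOf u)

theorem σ'_mul_self (u : Gen) : σ' u * σ' u = 1 := σ_mul_self _ _ _ _

theorem good_tabs : ∀ t ∈ tabs, Good 12 4096 2058 t := by
  intro t ht
  have h := List.all_eq_true.mp tabs_ok t ht
  rw [Bool.and_eq_true] at h
  exact good_of_checks _ _ _ t h.1 h.2

theorem tabOf_mem (u : Gen) : tabOf u ∈ tabs := by
  cases u <;> simp [tabOf, tabs]

theorem relT_eq : relT = relW.map (fun w => w.map (fun x => tabOf (gen x))) := by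
  rfl

theorem relT_ok : ∀ ts ∈ relT, checkWord 12 4096 ts 2058 = true := by
  intro ts hts
  obtain ⟨t, ht, rfl⟩ := List.getElem_of_mem hts
  have ht' : t < 33 := ht
  interval_cases t
  · exact relT0_ok
  · exact relT1_ok
  · exact relT2_ok
  · exact relT3_ok
  · exact relT4_ok
  · exact relT5_ok
  · exact relT6_ok
  · exact relT7_ok
  · exact relT8_ok
  · exact relT9_ok
  · exact relT10_ok
  · exact relT11_ok
  · exact relT12_ok
  · exact relT13_ok
  · exact relT14_ok
  · exact relT15_ok
  · exact relT16_ok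
  · exact relT17_ok
  · exact relT18_ok
  · exact relT19_ok
  · exact relT20_ok
  · exact relT21_ok
  · exact relT22_ok
  · exact relT23_ok
  · exact relT24_ok
  · exact relT25_ok
  · exact relT26_ok
  · exact relT27_ok
  · exact relT28_ok
  · exact relT29_ok
  · exact relT30_ok
  · exact relT31_ok
  · exact relT32_ok

theorem good_of_word (w : List ℕ) : ∀ t ∈ w.map (fun x => tabOf (gen x)), Good 12 4096 2058 t := by
  intro t ht
  obtain ⟨x, -, rfl⟩ := List.mem_map.mp ht
  exact good_tabs _ (tabOf_mem _)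

theorem σ'_words : ∀ w ∈ relW, ((w.map gen).map σ').prod = 1 := by
  intro w hw
  have hmem : w.map (fun x => tabOf (gen x)) ∈ relT := by
    rw [relT_eq]
    exact List.mem_map_of_mem hw
  have := prod_eq_one_of_check 12 4096 2058 _ (good_of_word w) (relT_ok _ hmem)
  rw [List.map_map] at this ⊢
  exact this

/-- the permutation representation on the cosets -/
noncomputable def φ : G →* Equiv.Perm (Fin 2058) :=
  PresentedGroup.toGroup (f := σ') (lift_rels σ' σ'_mul_self σ'_words)

theorem φ_of (u : Gen) : φ (PresentedGroup.of u) = σ' u := PresentedGroup.toGroup.of _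

theorem φ_mk (L : List (Gen × Bool)) : φ (PresentedGroup.mk rels (FreeGroup.mk L)) =
    (((L.map Prod.fst).map tabOf).map (σ 12 4096 2058)).prod := by
  have : φ (PresentedGroup.mk rels (FreeGroup.mk L)) = FreeGroup.lift σ' (FreeGroup.mk L) := rfl
  rw [this, lift_mk_of_invol σ' σ'_mul_self]
  simp only [List.map_map]
  rfl

/-- the base point -/
def z : Fin 2058 := ⟨0, by decide⟩

theorem φ_trans : ∀ i : Fin 2058, ∃ g : G, φ g z = i := by
  apply trans_of_conn 12 4096 2058 (by decide) φ gr tabs good_tabs _ conn_ok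
  intro t ht
  obtain ⟨k, hk, rfl⟩ := List.getElem_of_mem ht
  have hk' : k < 7 := hk
  interval_cases k
  · exact ⟨PresentedGroup.of .a, φ_of _⟩
  · exact ⟨PresentedGroup.of .b, φ_of _⟩
  · exact ⟨PresentedGroup.of .c, φ_of _⟩
  · exact ⟨PresentedGroup.of .d, φ_of _⟩
  · exact ⟨PresentedGroup.of .e, φ_of _⟩
  · exact ⟨PresentedGroup.of .f, φ_of _⟩
  · exact ⟨PresentedGroup.of .g, φ_of _⟩

theorem fix_of_apply (ts : List ℕ) (hg : ∀ t ∈ ts, Good 12 4096 2058 t)
    (h : applyT 12 4096 ts 0 = 0) : (ts.map (σ 12 4096 2058)).prod z = z := by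
  have h1 : ((ts.map (σ 12 4096 2058)).reverse.prod) z = z := by
    apply Fin.ext
    rw [prod_reverse_apply 12 4096 2058 ts hg z]
    exact h
  rw [prod_reverse_of_invol_list _ (by
    intro g hg'
    obtain ⟨t, -, rfl⟩ := List.mem_map.mp hg'
    exact σ_mul_self _ _ _ t)] at h1
  have h2 : (ts.map (σ 12 4096 2058)).prod (((ts.map (σ 12 4096 2058)).prod)⁻¹ z) = z := by simp
  rw [h1] at h2
  exact h2

theorem good_of_letters (L : List (Gen × Bool)) :
    ∀ t ∈ (L.map Prod.fst).map tabOf, Good 12 4096 2058 t := by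
  intro t ht
  obtain ⟨u, -, rfl⟩ := List.mem_map.mp ht
  exact good_tabs _ (tabOf_mem _)

theorem sgT_apply : ∀ ts ∈ sgT, applyT 12 4096 ts 0 = 0 := by
  intro ts hts
  exact Nat.eq_of_beq_eq_true (List.all_eq_true.mp sgT_ok ts hts)

theorem φ_S : ∀ s ∈ S, φ (PresentedGroup.mk rels s) z = z := by
  intro s hs
  simp only [S, Set.mem_insert_iff, Set.mem_singleton_iff] at hs
  rcases hs with rfl | rfl | rfl | rfl | rfl | rfl | rfl
  · rw [sg0_eq, φ_mk]
    exact fix_of_apply _ (good_of_letters _) (sgT_apply sgT0 (by simp [sgT]))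
  · rw [sg1_eq, φ_mk]
    exact fix_of_apply _ (good_of_letters _) (sgT_apply sgT1 (by simp [sgT]))
  · rw [sg2_eq, φ_mk]
    exact fix_of_apply _ (good_of_letters _) (sgT_apply sgT2 (by simp [sgT]))
  · rw [sg3_eq, φ_mk]
    exact fix_of_apply _ (good_of_letters _) (sgT_apply sgT3 (by simp [sgT]))
  · rw [sg4_eq, φ_mk]
    exact fix_of_apply _ (good_of_letters _) (sgT_apply sgT4 (by simp [sgT]))
  · rw [sg5_eq, φ_mk]
    exact fix_of_apply _ (good_of_letters _) (sgT_apply sgT5 (by simp [sgT]))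
  · rw [sg6_eq, φ_mk]
    exact fix_of_apply _ (good_of_letters _) (sgT_apply sgT6 (by simp [sgT]))

theorem φ_H : ∀ h ∈ H, φ h z = z := by
  rintro _ ⟨s, hs, rfl⟩
  induction hs using Subgroup.closure_induction with
  | mem s hs => exact φ_S s hs
  | one => simp
  | mul a b _ _ iha ihb =>
    change φ (PresentedGroup.mk rels (a * b)) z = z
    rw [map_mul, map_mul, Equiv.Perm.mul_apply]
    change φ (PresentedGroup.mk rels b) z = z at ihb
    change φ (PresentedGroup.mk rels a) z = z at iha
    rw [ihb, iha]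
  | inv a _ iha =>
    change φ (PresentedGroup.mk rels a⁻¹) z = z
    rw [map_inv, map_inv]
    have h2 : (φ (PresentedGroup.mk rels a))⁻¹ (φ (PresentedGroup.mk rels a) z) = z := by simp
    change φ (PresentedGroup.mk rels a) z = z at iha
    rw [iha] at h2
    exact h2

theorem index_and_stab : H.index = 2058 ∧ ∀ g : G, φ g z = z → g ∈ H :=
  index_eq_and_stab H φ z (by decide) φ_trans φ_H upper.1 upper.2

theorem index_eq : H.index = 2058 := index_and_stab.1

end Cfsg.Agent.Lib.H17.HeSp44
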